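import Cfsg.Agent.H818.Mono.Defs
import Cfsg.Agent.H696.GmnToral

/-!
# S2187, X4: base lemmas for the situation in a frame (helper496)

* `nr_frame`, `nr_one`, `nr_mul`, `nr_inv`, `nr_pow`, `nr_unique`, `nr_of_T`, `nr_mem_T` : the representatives;
* `comm_w`, `pow_w` : the image `VE hp r E` of `E` in `W` is commutative of exponent `p`;
* `gam_comm` : `γ` commutes with the image of `E`;
* `SS hp γ ε` : the long roots `a` with `γ a = ε • a`; `Eps p q ε` : `ε = ± 1`, `p ∣ q - ε`.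
-/

set_option autoImplicit false
set_option linter.unusedSectionVars false

namespace Cfsg.Agent.H496.Mono

open CoxeterSystem Cfsg Cfsg.Lie Cfsg.Lie.ChevalleyDatum
open Cfsg.Agent.ChevalleyStructure Cfsg.Agent.ChevalleyStructure.Elts Cfsg.Agent.ChevalleyStructure.CoxeterGeom
  Cfsg.Agent.ChevalleyStructure.CoxeterGeomTypes Cfsg.Agent.ChevalleyStructure.NPerm
open Cfsg.Agent.Tits.Roots Cfsg.Agent.Tits.Core Cfsg.Agent.Nodes Cfsg.Agent.Nodes.Reps Cfsg.Agent.Nodes.BNOf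
  Cfsg.Agent.Nodes.SubComb Cfsg.Agent.Nodes.RGDChev Cfsg.Agent.Nodes.Bruhat Cfsg.Agent.Nodes.Coroot
open Cfsg.Agent.KFacts.RgdField Cfsg.Agent.KFacts.RgdChevCoord
open Cfsg.Agent.BpExc Cfsg.Agent.BpExc.TorCent Cfsg.Agent.BpExc.TorChev Cfsg.Agent.BpExc.Tow
  Cfsg.Agent.BpExc.TowChev Cfsg.Agent.BpExc.Fr Cfsg.Agent.BpExc.LangFr
open Cfsg.Agent.H469.Exc Cfsg.Agent.H316.U6 Cfsg.Agent.H818.Gen Cfsg.Agent.H818.Mono Cfsg.Agent.H696.GmnToral
open Cfsg.Agent.H225.Gen (LL LL_rep LL_root LL_neg)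
open Cfsg.Agent.H818.StrP.UTab

variable {D : ChevalleyDatum} {l : ℕ} {M : CoxeterMatrix (Fin l)} {hp : IsType D l M} {r : ℕ} [Fact r.Prime]

section NR

variable {w w' : M.Group} {y y' : ↥(D.group (KK r))}

theorem nr_frame (h : NR hp r w y) : Fr M.toCoxeterSystem hp.isCartan (TT D (KK r)) (XX D l (KK r)) (MulAut.conj y)
    (repAut M.toCoxeterSystem hp.isCartan w) := by
  have h3 := Fr.conj (tow (k := KK r) hp M.toCoxeterSystem (locFin r) r) h
  rwa [TL_eq hp (locFin r), XL_eq hp (locFin r)] at h3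

theorem nr_one : NR hp r (1 : M.Group) 1 := rp_one

theorem nr_mul (h : NR hp r w y) (h' : NR hp r w' y') : NR hp r (w * w') (y * y') := Rp.mul h h'

theorem nr_inv (h : NR hp r w y) : NR hp r w⁻¹ y⁻¹ := Rp.inv h

theorem nr_pow (h : NR hp r w y) (n : ℕ) : NR hp r (w ^ n) (y ^ n) := by
  induction n with
  | zero => rw [pow_zero, pow_zero]; exact nr_one
  | succ n ih => rw [pow_succ, pow_succ]; exact nr_mul ih h

theorem nr_of_T (h : y ∈ TT D (KK r)) : NR hp r (1 : M.Group) y := rp_of_mem (by rw [TL_eq hp (locFin r)]; exact h)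

/-- the representative determines the element of `W` -/
theorem nr_unique (h : NR hp r w y) (h' : NR hp r w' y) : w = w' := by
  have := finite_W hp M.toCoxeterSystem
  refine rep_faithful hp M.toCoxeterSystem fun a ha => ?_
  obtain ⟨u, hu, hu1⟩ := XX_ne hp M.toCoxeterSystem (k := KK r) ha
  refine XX_injective hp M.toCoxeterSystem (locFin r) r (ha.act w) (ha.act w') (u := MulAut.conj y u) ?_
    (((nr_frame h).map _ ha u).2 hu) (((nr_frame h').map _ ha u).2 hu)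
  intro h3
  exact hu1 ((MulAut.conj y).injective (h3.trans (map_one _).symm))

/-- two representatives of the same element -/
theorem nr_inv_mul_mem (h : NR hp r w y) (h' : NR hp r w y') : y⁻¹ * y' ∈ TT D (KK r) := by
  have h1 := Rp.unique h h'
  rwa [TL_eq hp (locFin r)] at h1

theorem nr_mem_T (h : NR hp r (1 : M.Group) y) : y ∈ TT D (KK r) := by
  have h1 := nr_inv_mul_mem (nr_one (hp := hp) (r := r)) h
  rwa [inv_one, one_mul] at h1

theorem nr_mem_T_iff (h : NR hp r w y) : y ∈ TT D (KK r) ↔ w = 1 :=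
  ⟨fun h1 => nr_unique h (nr_of_T h1), fun h1 => by subst h1; exact nr_mem_T h⟩

/-- `NR` for the conjugate -/
theorem nr_conj (h : NR hp r w y) (h' : NR hp r w' y') : NR hp r (w' * w * w'⁻¹) (y' * y * y'⁻¹) :=
  nr_mul (nr_mul h' h) (nr_inv h')

end NR

/-- the image of `E` in `W` -/
def VE (hp : IsType D l M) (r : ℕ) [Fact r.Prime] (E : Subgroup ↥(D.group (KK r))) : Subgroup M.Group where
  carrier := {w | ∃ y ∈ E, NR hp r w y}
  one_mem' := ⟨1, one_mem _, nr_one⟩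
  mul_mem' := by
    rintro a b ⟨y, hy, h1⟩ ⟨y', hy', h2⟩
    exact ⟨y * y', mul_mem hy hy', nr_mul h1 h2⟩
  inv_mem' := by
    rintro a ⟨y, hy, h1⟩
    exact ⟨y⁻¹, inv_mem hy, nr_inv h1⟩

theorem mem_VE {E : Subgroup ↥(D.group (KK r))} {w : M.Group} : w ∈ VE hp r E ↔ ∃ y ∈ E, NR hp r w y := Iff.rfl

/-! ### the sign -/

/-- `ε = ± 1` and `p ∣ q - ε` -/
def Eps (p q : ℕ) (ε : ℤ) : Prop := (ε = 1 ∨ ε = -1) ∧ (p : ℤ) ∣ (q : ℤ) - ε

/-- the long roots with `γ a = ε a` -/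
def SS (hp : IsType D l M) (γ : (Fin l → ℤ) ≃+ (Fin l → ℤ)) (ε : ℤ) : Set (Fin l → ℤ) :=
  {a | a ∈ LL M.toCoxeterSystem hp ∧ γ a = ε • a}

theorem SS_LL {γ : (Fin l → ℤ) ≃+ (Fin l → ℤ)} {ε : ℤ} : SS hp γ ε ⊆ LL M.toCoxeterSystem hp := fun _ h => h.1

/-! ### the situation -/

section Sit

variable {p e : ℕ} {τ : MulAut ↥(D.group (KK r))} {γ : (Fin l → ℤ) ≃+ (Fin l → ℤ)} {E H : Subgroup ↥(D.group (KK r))}
  (S : Sit hp r p e τ γ E H) {y y' : ↥(D.group (KK r))} {w w' : M.Group}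

include S

theorem comm_E (hy : y ∈ E) (hy' : y' ∈ E) : y * y' = y' * y := by
  have := S.el.1
  exact congrArg Subtype.val (this.is_comm.comm (⟨y, hy⟩ : ↥E) ⟨y', hy'⟩)

theorem comm_w (hy : y ∈ E) (hw : NR hp r w y) (hy' : y' ∈ E) (hw' : NR hp r w' y') : w * w' = w' * w := by
  have h1 := nr_mul hw hw'
  rw [comm_E S hy hy'] at h1
  exact nr_unique h1 (nr_mul hw' hw)

theorem pow_w (hy : y ∈ E) (hw : NR hp r w y) : w ^ p = 1 := by
  have h1 := nr_pow hw p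
  rw [S.el.2 y hy] at h1
  exact nr_unique h1 nr_one

theorem VE_comm {v v' : M.Group} (hv : v ∈ VE hp r E) (hv' : v' ∈ VE hp r E) : v * v' = v' * v := by
  obtain ⟨y, hy, h1⟩ := hv
  obtain ⟨y', hy', h2⟩ := hv'
  exact comm_w S hy h1 hy' h2

theorem VE_pow {v : M.Group} (hv : v ∈ VE hp r E) : v ^ p = 1 := by
  obtain ⟨y, hy, h1⟩ := hv
  exact pow_w S hy h1

/-- `γ` commutes with the image of `E` -/
theorem gam_comm (hy : y ∈ E) (hw : NR hp r w y) {a : Fin l → ℤ} (ha : IsRoot M.toCoxeterSystem hp.isCartan a) :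
    γ (rep M.toCoxeterSystem hp.isCartan w a) = rep M.toCoxeterSystem hp.isCartan w (γ a) := by
  obtain ⟨u, hu, hu1⟩ := XX_ne hp M.toCoxeterSystem (k := KK r) ha
  have h1 := (S.fr.map _ (ha.act w) _).2 (((nr_frame hw).map _ ha u).2 hu)
  have h2 := ((nr_frame hw).map _ ((S.fr.root a).2 ha) _).2 ((S.fr.map _ ha u).2 hu)
  have e1 : MulAut.conj y (τ u) = τ (MulAut.conj y u) := by
    rw [MulAut.conj_apply, MulAut.conj_apply, map_mul, map_mul, map_inv, S.fix y hy]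
  rw [e1] at h2
  refine XX_injective hp M.toCoxeterSystem (locFin r) r ((S.fr.root _).2 (ha.act w)) (((S.fr.root a).2 ha).act w)
    (u := τ (MulAut.conj y u)) ?_ h1 h2
  intro h3
  apply hu1
  apply (MulAut.conj y).injective
  apply τ.injective
  rw [h3, map_one, map_one]

theorem VE_gam {v : M.Group} (hv : v ∈ VE hp r E) {a : Fin l → ℤ} (ha : IsRoot M.toCoxeterSystem hp.isCartan a) :
    γ (rep M.toCoxeterSystem hp.isCartan v a) = rep M.toCoxeterSystem hp.isCartan v (γ a) := by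
  obtain ⟨y, hy, h1⟩ := hv
  exact gam_comm S hy h1 ha

/-- `SS hp γ ε` is stable under the image of `E` -/
theorem VE_SS (h : HiList D) {ε : ℤ} {v : M.Group} (hv : v ∈ VE hp r E) {a : Fin l → ℤ} (ha : a ∈ SS hp γ ε) :
    rep M.toCoxeterSystem hp.isCartan v a ∈ SS hp γ ε := by
  refine ⟨LL_rep _ _ ha.1 v, ?_⟩
  rw [VE_gam S hv (LL_root h _ _ ha.1), ha.2, map_zsmul]

end Sit

end Cfsg.Agent.H496.Mono
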